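import Groth.Agent.SpQS.DecentPoint
import Groth.Agent.SpQS.MonoDiscrete
import Groth.Agent.SpQS.DimField
import Groth.Agent.AlgSpLib.Glue
import Groth.Agent.AlgSpLib.SepAffine
import Mathlib.AlgebraicGeometry.Artinian

/-!
Locally quasi-finite algebraic spaces over a field are schemes.
-/

universe u
open CategoryTheory CategoryTheory.Limits AlgebraicGeometry AlgSp Topology

set_option backward.isDefEq.respectTransparency false

namespace Groth.Agent.LqfFieldSp

open Groth.Agent.AlgSpLib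

variable {k : Type u} [Field k]

local notation "S₀" => Spec (CommRingCat.of k)

theorem discrete_of_lqf {U : Scheme.{u}} (g : U ⟶ S₀) [LocallyQuasiFinite g] : DiscreteTopology ↥U := by
  have hd := g.isDiscrete_preimage_singleton (IsLocalRing.closedPoint k)
  have huniv : g ⁻¹' {IsLocalRing.closedPoint k} = Set.univ :=
    Set.eq_univ_of_forall fun z => Subsingleton.elim (α := PrimeSpectrum k) _ _
  rw [huniv] at hd
  exact isDiscrete_univ_iff.1 hd

theorem chart_lqf {X : Sp S₀} (p : X ⟶ (yon S₀).obj (Over.mk (𝟙 _)))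
    (hp : LocP (@LocallyQuasiFinite ⊓ @LocallyOfFiniteType : MorphismProperty Scheme.{u}) p) {U : Over S₀}
    {a : (yon S₀).obj U ⟶ X} (ha : RepWith @Etale a) : LocallyQuasiFinite U.hom ∧ LocallyOfFiniteType U.hom :=
  hp a (𝟙 _) (Over.homMk U.hom : U ⟶ Over.mk (𝟙 _)) ha repWith_id'
    ((Over.mkIdTerminal.isTerminalObj (yon S₀)).hom_ext _ _)

theorem finite_affine_chart {X : Sp S₀} (p : X ⟶ (yon S₀).obj (Over.mk (𝟙 _)))
    (hp : LocP (@LocallyQuasiFinite ⊓ @LocallyOfFiniteType : MorphismProperty Scheme.{u}) p) {U : Over S₀}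
    [IsAffine U.left] {a : (yon S₀).obj U ⟶ X} (ha : RepWith @Etale a) : Finite ↥U.left := by
  obtain ⟨_, _⟩ := chart_lqf p hp ha
  have : DiscreteTopology ↥U.left := discrete_of_lqf U.hom
  exact finite_of_compact_of_discrete

theorem finite_double {X : Sp S₀} (p : X ⟶ (yon S₀).obj (Over.mk (𝟙 _)))
    (hp : LocP (@LocallyQuasiFinite ⊓ @LocallyOfFiniteType : MorphismProperty Scheme.{u}) p) {U V R : Over S₀}
    [IsAffine U.left] [IsAffine V.left] {a : (yon S₀).obj U ⟶ X} {b : (yon S₀).obj V ⟶ X}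
    (ha : RepWith @Etale a) (hb : RepWith @Etale b) {s : R ⟶ U} {t : R ⟶ V}
    (sq : IsPullback ((yon S₀).map s) ((yon S₀).map t) a b) : Finite ↥R.left := by
  obtain ⟨_, _⟩ := chart_lqf p hp ha
  obtain ⟨_, _⟩ := chart_lqf p hp hb
  have hfin : Finite ↥(U ⨯ V).left := by
    have : LocallyQuasiFinite (pullback.fst U.hom V.hom ≫ U.hom) := inferInstance
    have : DiscreteTopology ↥(pullback U.hom V.hom) := discrete_of_lqf (pullback.fst U.hom V.hom ≫ U.hom)
    have : IsAffine (pullback U.hom V.hom) := inferInstance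
    have : Finite ↥(pullback U.hom V.hom) := finite_of_compact_of_discrete
    exact Finite.of_equiv _ (Over.prodLeftIsoPullback U V).inv.homeomorph.toEquiv
  have hm : Mono (prod.lift s t) := ⟨fun {Z} u v e => (yon S₀).map_injective (sq.hom_ext
    (by rw [← Functor.map_comp, ← Functor.map_comp]
        congr 1
        simpa using congrArg (fun z => z ≫ prod.fst) e)
    (by rw [← Functor.map_comp, ← Functor.map_comp]
        congr 1
        simpa using congrArg (fun z => z ≫ prod.snd) e))⟩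
  have hinj : Function.Injective (prod.lift s t).left := by
    have : Mono (prod.lift s t).left := Over.mono_left_of_mono _
    intro x y e
    obtain ⟨w, hw₁, hw₂⟩ := Scheme.exists_preimage_of_isPullback (IsKernelPair.id_of_mono (prod.lift s t).left) x y e
    rw [← hw₁, ← hw₂]
  exact Finite.of_injective _ hinj

theorem goodAt {X : Sp S₀} (hX : IsAlgSpace X) (p : X ⟶ (yon S₀).obj (Over.mk (𝟙 _)))
    (hp : LocP (@LocallyQuasiFinite ⊓ @LocallyOfFiniteType : MorphismProperty Scheme.{u}) p) (x : Points X) :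
    SpQS.GoodAt x :=
  SpQS.goodAt_of_finite hX x fun U φ hU hφ R s t sq => by
    haveI := hU
    haveI := finite_double p hp hφ hφ sq
    exact Set.toFinite _

theorem isOpen_singleton {X : Sp S₀} (hX : IsAlgSpace X) (p : X ⟶ (yon S₀).obj (Over.mk (𝟙 _)))
    (hp : LocP (@LocallyQuasiFinite ⊓ @LocallyOfFiniteType : MorphismProperty Scheme.{u}) p) (x : Points X) :
    IsOpen ({x} : Set (Points X)) := by
  obtain ⟨U, a, ha, has⟩ := hX.atlas
  obtain ⟨u, rfl⟩ := ofPt_surjective has x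
  obtain ⟨_, _⟩ := chart_lqf p hp ha
  have : DiscreteTopology ↥U.left := discrete_of_lqf U.hom
  rw [← Set.image_singleton]
  exact isOpenMap_ofPt (repWith_universallyOpen_of_etale ha) _ (isOpen_discrete _)

theorem exists_iso_yon {X : Sp S₀} (hX : IsAlgSpace X) (p : X ⟶ (yon S₀).obj (Over.mk (𝟙 _)))
    (hp : LocP (@LocallyQuasiFinite ⊓ @LocallyOfFiniteType : MorphismProperty Scheme.{u}) p) :
    ∃ W : Over S₀, Nonempty (X ≅ (yon S₀).obj W) := by
  have hd := SpQS.isDecent_of_good hX (goodAt hX p hp)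
  have key : ∀ x : Points X, ∃ (M : Over S₀) (f : (yon S₀).obj M ⟶ X),
      RepWith @IsOpenImmersion f ∧ x ∈ Set.range (Points.map f) := fun x => by
    obtain ⟨M, f, hf, hsub, z, hz⟩ := SpQS.exists_schematic_open hX hd (isOpen_singleton hX p hp x) ⟨x, rfl⟩
    exact ⟨M, f, hf, hsub hz ▸ hz⟩
  choose M f hf hx using key
  obtain ⟨A, a, ha, has⟩ := hX.atlas
  refine exists_iso_yon_of_open_cover hX (fun u : ↥A.left => M (Points.ofPt a u))
    (fun u => f _) (fun u => hf _) fun x => ?_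
  obtain ⟨u, rfl⟩ := ofPt_surjective has x
  exact ⟨u, hx _⟩

theorem exists_point_piece (U : Over S₀) [LocallyQuasiFinite U.hom] [LocallyOfFiniteType U.hom] (u : ↥U.left) :
    ∃ V : U.left.Opens, u ∈ V ∧ IsAffineOpen V ∧ IsArtinianRing ↥Γ(U.left, V) ∧ IsLocalRing ↥Γ(U.left, V) ∧
      IsFinite (V.ι ≫ U.hom) := by
  have : DiscreteTopology ↥U.left := discrete_of_lqf U.hom
  let V : U.left.Opens := ⟨{u}, isOpen_discrete _⟩
  have : Subsingleton ↥V.toScheme := ⟨fun a b => Subtype.ext ((a.2 : a.1 = u).trans (b.2 : b.1 = u).symm)⟩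
  have : Nonempty ↥V.toScheme := ⟨⟨u, rfl⟩⟩
  have : DiscreteTopology ↥V.toScheme := V.ι.isOpenEmbedding.discreteTopology
  have : IsAffine V.toScheme := inferInstance
  have hV : IsAffineOpen V := ‹IsAffine V.toScheme›
  have : IsLocallyNoetherian U.left := LocallyOfFiniteType.isLocallyNoetherian U.hom
  have : IsLocallyArtinian U.left := IsLocallyArtinian.of_isLocallyNoetherian_of_discreteTopology
  have : QuasiCompact (V.ι ≫ U.hom) := HasAffineProperty.iff_of_isAffine.mpr (inferInstance : CompactSpace ↥V.toScheme)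
  refine ⟨V, rfl, hV, IsLocallyArtinian.isArtinianRing_presheaf_obj ⟨V, hV⟩, ?_,
    IsFinite.of_locallyQuasiFinite _⟩
  have e := hV.isoSpec.hom.homeomorph.toEquiv
  have : Nontrivial ↥Γ(U.left, V) := (PrimeSpectrum.nonempty_iff_nontrivial).1 ⟨e ⟨u, rfl⟩⟩
  have hsub : Subsingleton (PrimeSpectrum ↥Γ(U.left, V)) := e.symm.injective.subsingleton
  obtain ⟨m, hm⟩ := Ideal.exists_maximal ↥Γ(U.left, V)
  exact IsLocalRing.of_unique_max_ideal ⟨m, hm, fun n hn =>
    congrArg PrimeSpectrum.asIdeal (hsub.elim ⟨n, hn.isPrime⟩ ⟨m, hm.isPrime⟩)⟩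

theorem lqf_of_pieces (U : Over S₀) (h : ∀ u : ↥U.left, ∃ V : U.left.Opens,
      u ∈ V ∧ IsAffineOpen V ∧ IsArtinianRing ↥Γ(U.left, V) ∧ IsLocalRing ↥Γ(U.left, V) ∧ IsFinite (V.ι ≫ U.hom)) :
    LocallyQuasiFinite U.hom ∧ LocallyOfFiniteType U.hom := by
  choose V hu _ _ _ hfin using h
  have hcov : ⨆ u, V u = ⊤ := eq_top_iff.2 fun u _ => TopologicalSpace.Opens.mem_iSup.2 ⟨u, hu u⟩
  constructor
  · exact (IsZariskiLocalAtSource.iff_of_openCover (P := @LocallyQuasiFinite)
      (U.left.openCoverOfIsOpenCover V hcov)).2 fun u => haveI := hfin u; inferInstanceAs (LocallyQuasiFinite ((V u).ι ≫ U.hom))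
  · exact (IsZariskiLocalAtSource.iff_of_openCover (P := @LocallyOfFiniteType)
      (U.left.openCoverOfIsOpenCover V hcov)).2 fun u => haveI := hfin u; inferInstanceAs (LocallyOfFiniteType ((V u).ι ≫ U.hom))

end Groth.Agent.LqfFieldSp
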